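import Cfsg.Agent.LocalEven48.Basic
import Cfsg.Agent.TwoGroupsQ.UniqueInvolution
import Mathlib.GroupTheory.SpecificGroups.Quaternion

/-!
A normal subgroup `S` of a `2`-group `T` which has two commuting involutions and contains no
four-group normal in `T` has a cyclic subgroup `C` of index two, normal in `T`, such that every
element outside `C` centralizes only the involution of `C` in `C`.
-/

set_option autoImplicit false

open Subgroup
open scoped commutatorElement

namespace CfsgLib.RankOneFour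

variable {G : Type*} [Group G]

/-- The data describing `S` inside `T`: a cyclic subgroup `C = ⟨g⟩` of index two with involution `z`. -/
structure CyclicMax (T S : Subgroup G) (g z : G) : Prop where
  g_mem : g ∈ S
  z_mem : z ∈ zpowers g
  z_ord : orderOf z = 2
  z_central : ∀ t ∈ T, t * z = z * t
  g_sq : g * g ≠ 1
  conj_mem : ∀ t ∈ T, ∀ c ∈ zpowers g, t * c * t⁻¹ ∈ zpowers g
  prod_mem : ∀ a ∈ S, ∀ b ∈ S, a ∉ zpowers g → b ∉ zpowers g → a * b ∈ zpowers g
  fixed : ∀ e ∈ S, e ∉ zpowers g → ∀ c ∈ zpowers g, c * e = e * c → c = 1 ∨ c = z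
  two_power : IsPGroup 2 (zpowers g)

variable [Finite G]

theorem exists_odd_of_not_square {g h : G} (hh : h ∈ zpowers g)
    (hns : ∀ r ∈ zpowers g, h ≠ r * r) : ∃ k : ℤ, h = g ^ (2 * k + 1) := by
  obtain ⟨n, rfl⟩ := mem_zpowers_iff.1 hh
  rcases Int.even_or_odd' n with ⟨k, hk | hk⟩
  · exact absurd (by rw [hk, two_mul, zpow_add]) (hns (g ^ k) (zpow_mem (mem_zpowers g) k))
  · exact ⟨k, by rw [hk]⟩

theorem mem_zpowers_odd {g : G} (hg : IsPGroup 2 (zpowers g)) (k : ℤ) :
    g ∈ zpowers (g ^ (2 * k + 1)) := by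
  obtain ⟨m, hm⟩ := IsPGroup.iff_card.1 hg
  rw [Nat.card_zpowers] at hm
  have hco : IsCoprime (2 * k + 1) ((2 : ℤ) ^ m) := IsCoprime.pow_right ⟨1, -k, by ring⟩
  obtain ⟨a, b, hab⟩ := hco
  refine mem_zpowers_iff.2 ⟨a, ?_⟩
  have h1 : g ^ ((2 : ℤ) ^ m) = 1 := by
    rw [show ((2 : ℤ) ^ m) = ((2 ^ m : ℕ) : ℤ) by push_cast; ring, zpow_natCast, ← hm,
      pow_orderOf_eq_one]
  calc (g ^ (2 * k + 1)) ^ a = g ^ ((2 * k + 1) * a) := (zpow_mul g _ a).symm
    _ = g ^ ((2 * k + 1) * a) * (g ^ ((2 : ℤ) ^ m)) ^ b := by rw [h1, one_zpow, mul_one]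
    _ = g := by rw [← zpow_mul, ← zpow_add, show (2 * k + 1) * a + 2 ^ m * b =
          a * (2 * k + 1) + b * 2 ^ m by ring, hab, zpow_one]

/-- In a cyclic `2`-group the involution is unique. -/
theorem eq_of_involution {g z x : G} (hz : z ∈ zpowers g) (hzo : orderOf z = 2)
    (hx : x ∈ zpowers g) (hxx : x * x = 1) : x = 1 ∨ x = z := by
  haveI : IsCyclic (zpowers g) := inferInstance
  by_contra hne
  push Not at hne
  classical
  haveI := Fintype.ofFinite (zpowers g)
  have hzz : z * z = 1 := by rw [← sq, ← hzo, pow_orderOf_eq_one]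
  have hz1 : z ≠ 1 := fun h => by rw [h, orderOf_one] at hzo; norm_num at hzo
  have h3 : ({1, ⟨x, hx⟩, ⟨z, hz⟩} : Finset (zpowers g)) ⊆
      ({a : zpowers g | a ^ 2 = 1} : Finset (zpowers g)) := by
    intro a ha
    simp only [Finset.mem_insert, Finset.mem_singleton] at ha
    simp only [Finset.mem_filter, Finset.mem_univ, true_and]
    rcases ha with rfl | rfl | rfl
    · simp
    · exact Subtype.ext (by simpa [sq] using hxx)
    · exact Subtype.ext (by simpa [sq] using hzz)
  have hle := (Finset.card_le_card h3).trans (IsCyclic.card_pow_eq_one_le (n := 2) (by norm_num))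
  rw [Finset.card_insert_of_notMem, Finset.card_insert_of_notMem, Finset.card_singleton] at hle
  · omega
  · simp [hne.2]
  · simp [Subtype.ext_iff, Ne.symm hne.1, Ne.symm hz1]

/-- A homomorphism of a finite cyclic group with kernel in `{1, z}` has every square in its image. -/
theorem exists_eq_sq {g z : G} (φ : zpowers g →* zpowers g)
    (hker : ∀ d, φ d = 1 → (d : G) = 1 ∨ (d : G) = z) {h : G} (hh : h ∈ zpowers g) :
    ∃ d, ((φ d : zpowers g) : G) = h * h := by
  have h1 : Nat.card φ.ker * Nat.card φ.range = Nat.card (zpowers g) := by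
    rw [← Subgroup.index_ker, Subgroup.card_mul_index]
  have h2 : Nat.card φ.range * φ.range.index = Nat.card (zpowers g) := Subgroup.card_mul_index _
  have h3 : Nat.card φ.ker ≤ 2 := by
    have hs : Subtype.val '' (φ.ker : Set (zpowers g)) ⊆ ({1, z} : Set G) := by
      rintro _ ⟨d, hd, rfl⟩
      rcases hker d hd with h | h <;> simp [h]
    have := Set.ncard_le_ncard hs (Set.toFinite _)
    rw [Set.ncard_image_of_injective _ Subtype.val_injective] at this
    exact this.trans ((Set.ncard_insert_le _ _).trans (by rw [Set.ncard_singleton]))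
  have h4 : φ.range.index = Nat.card φ.ker :=
    Nat.eq_of_mul_eq_mul_left Nat.card_pos (by rw [h2, ← h1, mul_comm])
  suffices hmem : (⟨h, hh⟩ : zpowers g) * ⟨h, hh⟩ ∈ φ.range by
    obtain ⟨d, hd⟩ := hmem
    exact ⟨d, congrArg Subtype.val hd⟩
  rcases Nat.lt_or_ge φ.range.index 2 with hlt | hge
  · have h5 : φ.range.index = 1 := by
      have : φ.range.index ≠ 0 := Subgroup.index_ne_zero_of_finite
      omega
    rw [Subgroup.index_eq_one.1 h5]
    exact mem_top _
  · exact Subgroup.mul_self_mem_of_index_two (by omega) _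

/-- Squares are commutators with an element having fixed points only `1` and `z`. -/
theorem exists_comm_eq_sq {g z x : G} (hx : ∀ c ∈ zpowers g, x * c * x⁻¹ ∈ zpowers g)
    (hfix : ∀ c ∈ zpowers g, c * x = x * c → c = 1 ∨ c = z) {h : G} (hh : h ∈ zpowers g) :
    ∃ d ∈ zpowers g, d * (x * d * x⁻¹)⁻¹ = h * h := by
  let φ : zpowers g →* zpowers g := MonoidHom.mk'
    (fun d => d * (⟨x * d * x⁻¹, hx d d.2⟩ : zpowers g)⁻¹) fun a b => by
      have e : (⟨x * (a * b : zpowers g) * x⁻¹, hx _ (a * b).2⟩ : zpowers g) =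
          ⟨x * a * x⁻¹, hx a a.2⟩ * ⟨x * b * x⁻¹, hx b b.2⟩ :=
        Subtype.ext (by simp [mul_assoc])
      rw [e, _root_.mul_inv_rev]
      exact Subtype.ext (by
        have c1 := congrArg Subtype.val (IsMulCommutative.is_comm.comm b
          ((⟨x * b * x⁻¹, hx b b.2⟩ : zpowers g)⁻¹ * (⟨x * a * x⁻¹, hx a a.2⟩ : zpowers g)⁻¹))
        have c2 := congrArg Subtype.val (IsMulCommutative.is_comm.comm
          (⟨x * b * x⁻¹, hx b b.2⟩ : zpowers g)⁻¹
          ((⟨x * a * x⁻¹, hx a a.2⟩ : zpowers g)⁻¹ * b))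
        simp only [Subgroup.coe_mul, Subgroup.coe_inv] at c1 c2 ⊢
        rw [mul_assoc, c1, mul_assoc, c2]
        group)
  obtain ⟨d, hd⟩ := exists_eq_sq (z := z) φ (fun d hd => by
    have h1 : d = (⟨x * d * x⁻¹, hx d d.2⟩ : zpowers g) := mul_inv_eq_one.1 hd
    have h2 : (d : G) = x * d * x⁻¹ := congrArg Subtype.val h1
    exact hfix d d.2 (eq_mul_inv_iff_mul_eq.1 h2)) hh
  exact ⟨d, d.2, hd⟩

/-- Squares have the form `d · d^x` if only `1` and `z` are inverted by `x`. -/
theorem exists_plus_eq_sq {g z x : G} (hx : ∀ c ∈ zpowers g, x * c * x⁻¹ ∈ zpowers g)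
    (hinv : ∀ c ∈ zpowers g, x * c * x⁻¹ = c⁻¹ → c = 1 ∨ c = z) {h : G} (hh : h ∈ zpowers g) :
    ∃ d ∈ zpowers g, d * (x * d * x⁻¹) = h * h := by
  let φ : zpowers g →* zpowers g := MonoidHom.mk'
    (fun d => d * (⟨x * d * x⁻¹, hx d d.2⟩ : zpowers g)) fun a b => Subtype.ext (by
      have c1 := congrArg Subtype.val (IsMulCommutative.is_comm.comm b
        (⟨x * a * x⁻¹, hx a a.2⟩ : zpowers g))
      simp only [Subgroup.coe_mul] at c1 ⊢
      calc (a : G) * b * (x * (a * b) * x⁻¹) = a * (b * (x * a * x⁻¹)) * (x * b * x⁻¹) := by group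
        _ = a * (x * a * x⁻¹ * b) * (x * b * x⁻¹) := by rw [c1]
        _ = _ := by group)
  obtain ⟨d, hd⟩ := exists_eq_sq (z := z) φ (fun d hd => by
    have h2 : (d : G) * (x * d * x⁻¹) = 1 := congrArg Subtype.val hd
    exact hinv d d.2 (eq_inv_of_mul_eq_one_right h2)) hh
  exact ⟨d, d.2, hd⟩

/-- An abelian `2`-group with a single involution is cyclic. -/
theorem exists_eq_zpowers {C : Subgroup G} (hC : IsPGroup 2 C) (hab : IsMulCommutative C)
    (hu : ∀ x ∈ C, ∀ y ∈ C, x * x = 1 → y * y = 1 → x ≠ 1 → y ≠ 1 → x = y) :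
    ∃ g, zpowers g = C := by
  haveI : Fact (Nat.Prime 2) := ⟨Nat.prime_two⟩
  have huC : CfsgLib.TwoGroupsQ.HasUniqueOrderP ↥C 2 := by
    intro x y hx hy hy1
    have hx' : (x : G) * x = 1 := by
      have := congrArg Subtype.val hx
      simpa [sq] using this
    have hy' : (y : G) * y = 1 := by
      have := congrArg Subtype.val hy
      simpa [sq] using this
    by_cases hx1 : (x : G) = 1
    · rw [Subtype.ext (show (x : G) = ((1 : C) : G) from hx1)]
      exact one_mem _
    · rw [Subtype.ext (hu x x.2 y y.2 hx' hy' hx1 (fun h => hy1 (Subtype.ext h)))]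
      exact mem_zpowers _
  rcases CfsgLib.TwoGroupsQ.isCyclic_or_quaternion hC huC with hc | ⟨-, m, hm, ⟨f⟩⟩
  · exact (Subgroup.isCyclic_iff_exists_zpowers_eq_top C).1 hc
  · exfalso
    have h := congrArg f (hab.is_comm.comm (f.symm (QuaternionGroup.xa 0))
      (f.symm (QuaternionGroup.a 1)))
    rw [map_mul, map_mul, f.apply_symm_apply, f.apply_symm_apply, QuaternionGroup.xa_mul_a,
      QuaternionGroup.a_mul_xa] at h
    have h2 : ((1 : ℤ) : ZMod (2 * 2 ^ m)) = ((-1 : ℤ) : ZMod (2 * 2 ^ m)) := by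
      have h1 := QuaternionGroup.xa.inj h
      push_cast
      simpa using h1
    rw [ZMod.intCast_eq_intCast_iff_dvd_sub] at h2
    have h4 : (4 : ℤ) ∣ ((2 * 2 ^ m : ℕ) : ℤ) := by
      obtain ⟨j, rfl⟩ : ∃ j, m = j + 1 := ⟨m - 1, by omega⟩
      exact ⟨2 ^ j, by push_cast; ring⟩
    have := Int.le_of_dvd (by norm_num) ((dvd_neg.2 (h4.trans h2)))
    omega

theorem mem_normalizer_of_forall_conj {H : Subgroup G} {t : G}
    (h : ∀ x ∈ H, t * x * t⁻¹ ∈ H) : t ∈ normalizer (H : Set G) := by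
  refine mem_normalizer_iff_map_conj_eq.2 (eq_of_le_of_card_ge ?_ ?_)
  · rintro _ ⟨y, hy, rfl⟩
    exact h y hy
  · exact (card_map_of_injective (K := H) (MulAut.conj t).injective).ge

/-- The structure of `S`: if `T` normalises `S`, no four-group of `S` is normal in `T`, and `S` has
two distinct commuting involutions, there is a cyclic subgroup of index two as described. -/
theorem exists_cyclicMax {T S : Subgroup G} (hT : IsPGroup 2 T) (hST : S ≤ T)
    (hTS : T ≤ normalizer (S : Set G))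
    (hno : ∀ z ∈ S, ∀ e ∈ S, orderOf z = 2 → orderOf e = 2 → z ≠ e → (∀ t ∈ T, t * z = z * t) →
      (∀ t ∈ T, t * e * t⁻¹ = e ∨ t * e * t⁻¹ = z * e) → False)
    (hrk : ∃ a ∈ S, ∃ b ∈ S, orderOf a = 2 ∧ orderOf b = 2 ∧ a ≠ b ∧ a * b = b * a) :
    ∃ g z, CyclicMax T S g z := by
  classical
  haveI : Fact (Nat.Prime 2) := ⟨Nat.prime_two⟩
  obtain ⟨C, ⟨hCS, hCc, hCn⟩, hmax⟩ := Set.exists_max_image
    {D : Subgroup G | D ≤ S ∧ IsMulCommutative D ∧ T ≤ normalizer (D : Set G)}
    (fun D => Nat.card D) (Set.toFinite _)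
    ⟨⊥, bot_le, inferInstance, fun x _ => by rw [normalizer_eq_top]; exact mem_top x⟩
  have hCp : IsPGroup 2 C := hT.to_le (hCS.trans hST)
  have hconj : ∀ t ∈ T, ∀ c ∈ C, t * c * t⁻¹ ∈ C := fun t ht c hc =>
    ((mem_normalizer_iff.1 (hCn ht)) c).1 hc
  have hconjS : ∀ t ∈ T, ∀ c ∈ S, t * c * t⁻¹ ∈ S := fun t ht c hc =>
    ((mem_normalizer_iff.1 (hTS ht)) c).1 hc
  -- `C` is self-centralizing in `S`
  have hself : ∀ v ∈ S, (∀ c ∈ C, c * v = v * c) → v ∈ C := by
    intro v hvS hv
    by_contra hvC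
    set K := S ⊓ centralizer (C : Set G) with hK
    have hKn : T ≤ normalizer (K : Set G) := by
      refine fun t ht => mem_normalizer_of_forall_conj (fun k hk => ⟨hconjS t ht k hk.1, mem_centralizer_iff.2 ?_⟩)
      intro c hc
      have h1 := mem_centralizer_iff.1 hk.2 (t⁻¹ * c * t)
        (by simpa using hconj t⁻¹ (inv_mem ht) c hc)
      calc c * (t * k * t⁻¹) = t * ((t⁻¹ * c * t) * k) * t⁻¹ := by group
        _ = t * (k * (t⁻¹ * c * t)) * t⁻¹ := by rw [h1]
        _ = t * k * t⁻¹ * c := by group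
    have hKC : ¬ K ≤ C := fun h => hvC (h ⟨hvS, mem_centralizer_iff.2 hv⟩)
    obtain ⟨x, hxK, hxC, hxa⟩ := LocalEven48.exists_not_mem_commutator_mem
      (hT.to_le (inf_le_left.trans hST)) hT hKn hKC
    set D := closure ((C : Set G) ∪ {x}) with hD
    have hDab : IsMulCommutative D := by
      refine Subgroup.isMulCommutative_closure ?_
      rintro a (ha | rfl) b (hb | rfl)
      · exact congrArg Subtype.val (hCc.is_comm.comm ⟨a, ha⟩ ⟨b, hb⟩)
      · exact mem_centralizer_iff.1 hxK.2 a ha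
      · exact (mem_centralizer_iff.1 hxK.2 b hb).symm
      · rfl
    have hDS : D ≤ S := (closure_le _).2
      (Set.union_subset hCS (Set.singleton_subset_iff.2 hxK.1))
    have hCD : C ≤ D := fun c hc => subset_closure (Or.inl hc)
    have hDn : T ≤ normalizer (D : Set G) := by
      intro t ht
      refine mem_normalizer_of_forall_conj ?_
      intro d hd
      have : D.map (MulAut.conj t).toMonoidHom ≤ D := by
        rw [hD, MonoidHom.map_closure, closure_le]
        rintro _ ⟨y, hy | rfl, rfl⟩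
        · exact hCD (hconj t ht y hy)
        · have h1 : t * y * t⁻¹ = ⁅t, y⁆ * y := by simp [commutatorElement_def, mul_assoc]
          show t * y * t⁻¹ ∈ D
          rw [h1]
          exact mul_mem (hCD (hxa t ht)) (subset_closure (Or.inr rfl))
      exact this ⟨d, hd, rfl⟩
    have h5 := hmax D ⟨hDS, hDab, hDn⟩
    exact hxC ((eq_of_le_of_card_ge hCD h5) ▸ subset_closure (Or.inr rfl))
  -- one involution
  obtain ⟨a₀, ha₀, b₀, hb₀, ha₂, hb₂, hab₀, habc⟩ := hrk
  have hSne : ¬ S ≤ ⊥ := fun h => by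
    rw [mem_bot.1 (h ha₀), orderOf_one] at ha₂
    norm_num at ha₂
  obtain ⟨x, hxS, hx1, hxa⟩ := LocalEven48.exists_not_mem_commutator_mem (hT.to_le hST) hT hTS hSne
  have hxc : ∀ t ∈ T, t * x = x * t := fun t ht =>
    commutatorElement_eq_one_iff_mul_comm.1 (mem_bot.1 (hxa t ht))
  have hxC : x ∈ C := hself x hxS fun c hc => hxc c (hST (hCS hc))
  obtain ⟨n, hn⟩ := (IsPGroup.iff_orderOf.1 hT) ⟨x, hST hxS⟩
  rw [← Subgroup.orderOf_coe] at hn
  have hn0 : n ≠ 0 := fun h0 => hx1 (by rw [h0, pow_zero, orderOf_eq_one_iff] at hn; rw [mem_bot]; exact hn)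
  set z := x ^ (2 ^ (n - 1)) with hz
  have hzo : orderOf z = 2 := by
    rw [hz, orderOf_pow' _ (by positivity), hn]
    obtain ⟨j, rfl⟩ : ∃ j, n = j + 1 := ⟨n - 1, by omega⟩
    rw [Nat.add_sub_cancel, Nat.gcd_eq_right (pow_dvd_pow 2 (by omega)), pow_succ]
    exact Nat.mul_div_cancel_left 2 (by positivity)
  have hzc : ∀ t ∈ T, t * z = z * t := fun t ht => (Commute.pow_right (hxc t ht) _).eq
  have hzC : z ∈ C := pow_mem hxC _
  have hz1 : z ≠ 1 := fun h => by rw [h, orderOf_one] at hzo; norm_num at hzo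
  have hzz : z * z = 1 := by rw [← sq, ← hzo, pow_orderOf_eq_one]
  have huniq : ∀ v ∈ C, v * v = 1 → v ≠ 1 → v = z := by
    intro v hv hvv hv1
    by_contra hvz
    set V : Subgroup G :=
      { carrier := {y | y ∈ C ∧ y * y = 1}
        one_mem' := ⟨one_mem _, one_mul 1⟩
        mul_mem' := fun {a b} ha hb => ⟨mul_mem ha.1 hb.1, by
          have h := congrArg Subtype.val (hCc.is_comm.comm ⟨b, hb.1⟩ ⟨a, ha.1⟩)
          simp only [Subgroup.coe_mul] at h
          calc a * b * (a * b) = a * (b * a) * b := by group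
            _ = a * a * (b * b) := by rw [h]; group
            _ = 1 := by rw [ha.2, hb.2, one_mul]⟩
        inv_mem' := fun {a} ha => ⟨inv_mem ha.1, by rw [← _root_.mul_inv_rev, ha.2, inv_one]⟩ }
      with hV
    have hVn : T ≤ normalizer (V : Set G) := fun t ht => mem_normalizer_of_forall_conj fun y hy =>
      ⟨hconj t ht y hy.1, by rw [conj_mul, hy.2, mul_one, mul_inv_cancel]⟩
    have hVz : ¬ V ≤ zpowers z := fun h =>
      (eq_of_involution (mem_zpowers z) hzo (h ⟨hv, hvv⟩) hvv).elim hv1 hvz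
    obtain ⟨e, heV, hez, hea⟩ := LocalEven48.exists_not_mem_commutator_mem
      (hT.to_le (fun y (hy : y ∈ V) => hST (hCS hy.1))) hT hVn hVz
    have he1 : e ≠ 1 := fun h => hez (h ▸ one_mem _)
    refine hno z (hCS hzC) e (hCS heV.1) hzo (orderOf_eq_prime (by rw [sq]; exact heV.2) he1)
      (fun h => hez (h ▸ mem_zpowers z)) hzc fun t ht => ?_
    have h1 : ⁅t, e⁆ * ⁅t, e⁆ = 1 := by
      obtain ⟨k, hk⟩ := mem_zpowers_iff.1 (hea t ht)
      rw [← hk, ← (Commute.refl z).mul_zpow, hzz, one_zpow]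
    have h2 : t * e * t⁻¹ = ⁅t, e⁆ * e := by simp [commutatorElement_def, mul_assoc]
    rcases eq_of_involution (mem_zpowers z) hzo (hea t ht) h1 with h | h <;> rw [h] at h2
    · exact Or.inl (h2.trans (one_mul e))
    · exact Or.inr h2
  obtain ⟨g, rfl⟩ := exists_eq_zpowers hCp hCc (fun u hu v hv huu hvv hu1 hv1 =>
    (huniq u hu huu hu1).trans (huniq v hv hvv hv1).symm)
  have hgT : g ∈ T := hST (hCS (mem_zpowers g))
  -- `C` has order at least `4`
  have hgg : g * g ≠ 1 := by
    intro hgg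
    have hall : ∀ y ∈ S, y ∈ zpowers g := fun y hy => hself y hy fun c hc => by
      rcases eq_of_involution hzC hzo hc (by
        obtain ⟨k, rfl⟩ := mem_zpowers_iff.1 hc
        rw [← (Commute.refl g).mul_zpow, hgg, one_zpow]) with h | h
      · rw [h, one_mul, mul_one]
      · rw [h]; exact (hzc y (hST hy)).symm
    have e1 : a₀ * a₀ = 1 := by rw [← sq, ← ha₂, pow_orderOf_eq_one]
    have e2 : b₀ * b₀ = 1 := by rw [← sq, ← hb₂, pow_orderOf_eq_one]
    refine hab₀ ((huniq a₀ (hall a₀ ha₀) e1 ?_).trans (huniq b₀ (hall b₀ hb₀) e2 ?_).symm)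
    · intro h
      rw [h, orderOf_one] at ha₂
      omega
    · intro h
      rw [h, orderOf_one] at hb₂
      omega
  obtain ⟨m, hm⟩ := IsPGroup.iff_card.1 hCp
  rw [Nat.card_zpowers] at hm
  have hm2 : 2 ≤ m := by
    by_contra hlt
    refine hgg ?_
    have := pow_orderOf_eq_one g
    rw [hm] at this
    interval_cases m
    · rw [pow_zero, pow_one] at this; rw [this, one_mul]
    · rw [pow_one, sq] at this; exact this
  set i := g ^ (2 ^ (m - 2)) with hi
  have hiC : i ∈ zpowers g := pow_mem (mem_zpowers g) _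
  have hii : i * i = z := by
    refine (huniq (i * i) (mul_mem hiC hiC) ?_ ?_)
    · rw [← sq, ← sq, ← pow_mul, ← pow_mul, ← pow_orderOf_eq_one g, hm]
      congr 1
      rw [← sq, ← pow_add, Nat.sub_add_cancel hm2]
    · rw [← sq, hi, ← pow_mul, ← pow_succ]
      exact pow_ne_one_of_lt_orderOf (by positivity) (by
        rw [hm]; exact Nat.pow_lt_pow_right one_lt_two (by omega))
  have hi4 : ∀ c ∈ zpowers g, c * c = z → c = i ∨ c = i⁻¹ := by
    intro c hc hcc
    have hcm : Commute c i⁻¹ :=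
      (congrArg Subtype.val (hCc.is_comm.comm ⟨c, hc⟩ ⟨i⁻¹, inv_mem hiC⟩) :)
    have h : (c * i⁻¹) * (c * i⁻¹) = 1 := by
      rw [hcm.symm.mul_mul_mul_comm, hcc, ← _root_.mul_inv_rev, hii, mul_inv_cancel]
    rcases eq_of_involution hzC hzo (mul_mem hc (inv_mem hiC)) h with h1 | h1
    · exact Or.inl (mul_inv_eq_one.1 h1)
    · refine Or.inr (eq_inv_of_mul_eq_one_left ?_)
      rw [mul_inv_eq_iff_eq_mul.1 h1, mul_assoc, hii, hzz]
  -- nontrivial elements have `i` or square `1`
  have hpow : ∀ c ∈ zpowers g, c ≠ 1 → c ≠ z → i ∈ zpowers c := by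
    intro c hc hc1 hcz
    obtain ⟨j, hj⟩ := (IsPGroup.iff_orderOf.1 hCp) ⟨c, hc⟩
    rw [← Subgroup.orderOf_coe] at hj
    have hj2 : 2 ≤ j := by
      by_contra hlt
      have := pow_orderOf_eq_one c
      rw [hj] at this
      interval_cases j
      · rw [pow_zero, pow_one] at this; exact hc1 this
      · rw [pow_one, sq] at this; exact hcz (huniq c hc this hc1)
    set c' := c ^ (2 ^ (j - 2)) with hc'
    have hc'C : c' ∈ zpowers g := pow_mem hc _
    have hsq : c' * c' = z := by
      refine huniq _ (mul_mem hc'C hc'C) ?_ ?_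
      · rw [← sq, ← sq, ← pow_mul, ← pow_mul, ← pow_orderOf_eq_one c, hj]
        congr 1
        rw [← sq, ← pow_add, Nat.sub_add_cancel hj2]
      · rw [← sq, hc', ← pow_mul, ← pow_succ]
        exact pow_ne_one_of_lt_orderOf (by positivity) (by
          rw [hj]; exact Nat.pow_lt_pow_right one_lt_two (by omega))
    have hmem : c' ∈ zpowers c := pow_mem (mem_zpowers c) _
    rcases hi4 c' hc'C hsq with h | h
    · exact h ▸ hmem
    · rw [show i = c'⁻¹ by rw [h, inv_inv]]
      exact inv_mem hmem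
  -- elements of `S` fixing `i` lie in `C`
  have hM : ∀ v ∈ S, v * i = i * v → v ∈ zpowers g := by
    intro v hvS hvi
    by_contra hvC
    set M := S ⊓ centralizer ({i} : Set G) with hMdef
    have hiconj : ∀ t ∈ T, t * i * t⁻¹ = i ∨ t * i * t⁻¹ = i⁻¹ := fun t ht => by
      refine hi4 _ (hconj t ht i hiC) ?_
      rw [conj_mul, hii, hzc t ht, mul_inv_cancel_right]
    have hMn : T ≤ normalizer (M : Set G) := by
      intro t ht
      refine mem_normalizer_of_forall_conj fun k hk =>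
        ⟨hconjS t ht k hk.1, mem_centralizer_singleton_iff.2 ?_⟩
      have hki : k * i = i * k := mem_centralizer_singleton_iff.1 hk.2
      have h1 : Commute (t * k * t⁻¹) (t * i * t⁻¹) := (show Commute k i from hki).map
        (MulAut.conj t).toMonoidHom
      rcases hiconj t ht with h | h <;> rw [h] at h1
      · exact h1.eq
      · exact (inv_inv i ▸ h1.inv_right).eq
    have hMC : ¬ M ≤ zpowers g := fun h => hvC (h ⟨hvS, mem_centralizer_singleton_iff.2 hvi⟩)
    obtain ⟨y, hyM, hyC, hya⟩ := LocalEven48.exists_not_mem_commutator_mem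
      (hT.to_le (inf_le_left.trans hST)) hT hMn hMC
    have hyT : y ∈ T := hST hyM.1
    -- replace `y` by a power whose square lies in `C`
    obtain ⟨w, hwM, hwC, hwa, hwsq⟩ : ∃ w ∈ M, w ∉ zpowers g ∧ (∀ t ∈ T, ⁅t, w⁆ ∈ zpowers g) ∧
        w * w ∈ zpowers g := by
      have hex : ∃ j, y ^ 2 ^ j ∈ zpowers g := by
        obtain ⟨j, hj⟩ := (IsPGroup.iff_orderOf.1 hT) ⟨y, hyT⟩
        rw [← Subgroup.orderOf_coe] at hj
        exact ⟨j, by rw [← hj, pow_orderOf_eq_one]; exact one_mem _⟩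
      set j := Nat.find hex with hjd
      have hj0 : j ≠ 0 := fun h => hyC (by
        have := Nat.find_spec hex
        rwa [← hjd, h, pow_zero, pow_one] at this)
      refine ⟨y ^ 2 ^ (j - 1), pow_mem hyM _, Nat.find_min hex (by omega), fun t ht => ?_, ?_⟩
      · generalize 2 ^ (j - 1) = k
        induction k with
        | zero => rw [pow_zero, commutatorElement_one_right]; exact one_mem _
        | succ k ih =>
          have h1 : ⁅t, y ^ (k + 1)⁆ = ⁅t, y⁆ * (y * ⁅t, y ^ k⁆ * y⁻¹) := by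
            rw [pow_succ']
            simp [commutatorElement_def, mul_assoc]
          rw [h1]
          exact mul_mem (hya t ht) (hconj y hyT _ ih)
      · rw [← pow_add, ← two_mul, ← pow_succ', Nat.sub_add_cancel (Nat.one_le_iff_ne_zero.2 hj0)]
        exact Nat.find_spec hex
    have hwT : w ∈ T := hST hwM.1
    have hwi : w * i = i * w := mem_centralizer_singleton_iff.1 hwM.2
    have hinv : ∀ c ∈ zpowers g, w * c * w⁻¹ = c⁻¹ → c = 1 ∨ c = z := by
      intro c hc hcw
      by_contra hne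
      push Not at hne
      obtain ⟨k, hk⟩ := mem_zpowers_iff.1 (hpow c hc hne.1 hne.2)
      have h2 : w * i * w⁻¹ = i⁻¹ := by rw [← hk, ← conj_zpow, hcw, inv_zpow]
      rw [hwi, mul_inv_cancel_right] at h2
      refine hz1 (hii ▸ ?_)
      exact mul_eq_one_iff_eq_inv.2 h2
    obtain ⟨r, hr, hw2⟩ : ∃ r ∈ zpowers g, w * w = r * r := by
      by_contra hns
      push Not at hns
      obtain ⟨k, hk⟩ := exists_odd_of_not_square hwsq hns
      refine hwC (hself w hwM.1 fun c hc => ?_)
      obtain ⟨l, rfl⟩ := mem_zpowers_iff.1 hc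
      obtain ⟨q, hq⟩ := mem_zpowers_iff.1 (mem_zpowers_odd hCp k)
      have : Commute w g := by
        rw [← hq, ← hk]
        exact ((Commute.refl w).mul_right (Commute.refl w)).zpow_right q
      exact (this.zpow_right l).eq.symm
    obtain ⟨d, hd, hdd⟩ := exists_plus_eq_sq (z := z) (x := w) (hconj w hwT) hinv (inv_mem hr)
    set e := d * w with he
    have hee : e * e = 1 := by
      calc e * e = d * (w * d * w⁻¹) * (w * w) := by rw [he]; group
        _ = 1 := by rw [hdd, hw2]; group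
    have heC : e ∉ zpowers g := fun h => hwC (by
      have := mul_mem (inv_mem hd) h
      rwa [he, inv_mul_cancel_left] at this)
    have he1 : e ≠ 1 := fun h => heC (h ▸ one_mem _)
    have heS : e ∈ S := mul_mem (hCS hd) hwM.1
    refine hno z (hCS hzC) e heS hzo (orderOf_eq_prime (by rw [sq]; exact hee) he1)
      (fun h => heC (h ▸ hzC)) hzc fun t ht => ?_
    set c := t * e * t⁻¹ * e⁻¹ with hc
    have hcC : c ∈ zpowers g := by
      have h1 : c = t * d * t⁻¹ * ⁅t, w⁆ * d⁻¹ := by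
        rw [hc, he]; simp [commutatorElement_def, mul_assoc]
      rw [h1]
      exact mul_mem (mul_mem (hconj t ht d hd) (hwa t ht)) (inv_mem hd)
    have hte : t * e * t⁻¹ = c * e := by rw [hc]; group
    have hcinv : w * c * w⁻¹ = c⁻¹ := by
      have h1 : (c * e) * (c * e) = 1 := by
        rw [← hte, conj_mul, hee, mul_one, mul_inv_cancel]
      have h2 : d * (w * c * w⁻¹) * d⁻¹ = w * c * w⁻¹ := by
        have := congrArg Subtype.val (hCc.is_comm.comm ⟨d, hd⟩ ⟨_, hconj w hwT c hcC⟩)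
        simp only [Subgroup.coe_mul] at this
        rw [this, mul_inv_cancel_right]
      refine eq_inv_of_mul_eq_one_right ?_
      calc c * (w * c * w⁻¹) = c * (d * (w * c * w⁻¹) * d⁻¹) := by rw [h2]
        _ = (c * e) * (c * e) * (e * e)⁻¹ := by rw [he]; group
        _ = 1 := by rw [h1, hee, inv_one, one_mul]
    rcases hinv c hcC hcinv with h | h
    · exact Or.inl (by rw [hte, h, one_mul])
    · exact Or.inr (by rw [hte, h])
  refine ⟨g, z, hCS (mem_zpowers g), hzC, hzo, hzc, hgg, hconj, ?_, ?_, hCp⟩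
  · intro a ha b hb haC hbC
    refine hM _ (mul_mem ha hb) ?_
    have hinvi : ∀ s ∈ S, s ∉ zpowers g → s * i * s⁻¹ = i⁻¹ := fun s hs hsC => by
      refine (hi4 _ (hconj s (hST hs) i hiC) ?_).resolve_left fun h =>
        hsC (hM s hs (mul_inv_eq_iff_eq_mul.1 h))
      rw [conj_mul, hii, hzc s (hST hs), mul_inv_cancel_right]
    have h1 : a * b * i * (a * b)⁻¹ = i := by
      calc a * b * i * (a * b)⁻¹ = a * (b * i * b⁻¹) * a⁻¹ := by group
        _ = a * i⁻¹ * a⁻¹ := by rw [hinvi b hb hbC]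
        _ = (a * i * a⁻¹)⁻¹ := by group
        _ = i := by rw [hinvi a ha haC, inv_inv]
    exact mul_inv_eq_iff_eq_mul.1 h1
  · intro e he heC c hc hce
    by_contra hne
    push Not at hne
    obtain ⟨k, hk⟩ := mem_zpowers_iff.1 (hpow c hc hne.1 hne.2)
    exact heC (hM e he (hk ▸ ((show Commute e c from hce.symm).zpow_right k).eq))

end CfsgLib.RankOneFour
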