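import Mathlib.GroupTheory.Sylow

/-!
Conjugation of `2`-subgroups of a subgroup `K` into a given one of largest order.
-/

set_option autoImplicit false

open Subgroup

namespace CfsgLib.RankOneFour

variable {G : Type*} [Group G] [Finite G] {p : ℕ} [Fact p.Prime]

theorem exists_max_pGroup {K P₀ : Subgroup G} (hP₀ : IsPGroup p P₀) (h₀ : P₀ ≤ K) :
    ∃ T : Subgroup G, T ≤ K ∧ P₀ ≤ T ∧ IsPGroup p T ∧
      ∀ P : Subgroup G, IsPGroup p P → P ≤ K → Nat.card P ≤ Nat.card T := by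
  obtain ⟨Q, hQ⟩ := (hP₀.comap_subtype (K := K)).exists_le_sylow
  refine ⟨(Q : Subgroup K).map K.subtype, map_subtype_le _, fun x hx => ?_, Q.2.map _, ?_⟩
  · exact ⟨⟨x, h₀ hx⟩, hQ hx, rfl⟩
  · intro P hP hPK
    obtain ⟨R, hR⟩ := (hP.comap_subtype (K := K)).exists_le_sylow
    rw [card_map_of_injective K.subtype_injective]
    calc Nat.card P = Nat.card (P.subgroupOf K) :=
          (Nat.card_congr (subgroupOfEquivOfLe hPK).toEquiv).symm
      _ ≤ Nat.card R := card_le_of_le hR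
      _ = Nat.card Q := by rw [R.card_eq_multiplicity, Q.card_eq_multiplicity]

theorem exists_conj_into {K T : Subgroup G} (hT : IsPGroup p T) (hTK : T ≤ K)
    (hmax : ∀ P : Subgroup G, IsPGroup p P → P ≤ K → Nat.card P ≤ Nat.card T)
    {P : Subgroup G} (hP : IsPGroup p P) (hPK : P ≤ K) :
    ∃ k ∈ K, ∀ x ∈ P, k * x * k⁻¹ ∈ T := by
  obtain ⟨Q, hQ⟩ := (hT.comap_subtype (K := K)).exists_le_sylow
  have hQe : T.subgroupOf K = (Q : Subgroup K) := by
    refine eq_of_le_of_card_ge hQ ?_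
    rw [Nat.card_congr (subgroupOfEquivOfLe hTK).toEquiv,
      ← card_map_of_injective (K := (Q : Subgroup K)) K.subtype_injective]
    exact hmax _ (Q.2.map _) (map_subtype_le _)
  obtain ⟨R, hR⟩ := (hP.comap_subtype (K := K)).exists_le_sylow
  obtain ⟨n, hn⟩ := MulAction.exists_smul_eq (↥K) R Q
  refine ⟨n, n.2, fun x hx => ?_⟩
  have h1 : MulAut.conj n • (⟨x, hPK hx⟩ : K) ∈ (Q : Subgroup K) := by
    rw [← hn, Sylow.coe_subgroup_smul]
    exact smul_mem_pointwise_smul _ (MulAut.conj n) _ (hR (show x ∈ P from hx))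
  rw [← hQe] at h1
  simpa [mem_subgroupOf] using h1

end CfsgLib.RankOneFour
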