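import Cfsg.Agent.RankOneFour.Structure

/-!
For a four-group `U` normalising `S`, no involution of which centralises an involution of `S`
outside the cyclic subgroup of index two, every such involution is centralised by an element of `T`
whose square is the central involution.
-/

set_option autoImplicit false

open Subgroup
open scoped commutatorElement

namespace CfsgLib.RankOneFour

variable {G : Type*} [Group G] [Finite G] {T S : Subgroup G} {g z : G}

theorem CyclicMax.comm (_h : CyclicMax T S g z) {a b : G} (ha : a ∈ zpowers g)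
    (hb : b ∈ zpowers g) : Commute a b := by
  obtain ⟨i, rfl⟩ := mem_zpowers_iff.1 ha
  obtain ⟨j, rfl⟩ := mem_zpowers_iff.1 hb
  exact Commute.zpow_zpow_self g i j

/-- Either `u` gives a good element, or it inverts `⟨g⟩` and `e` does not. -/
theorem CyclicMax.good_or_inverts (h : CyclicMax T S g z) (hST : S ≤ T)
    (hTS : T ≤ normalizer (S : Set G)) {u e : G} (huT : u ∈ T) (huu : u * u = 1)
    (hu : ∀ f ∈ S, f * f = 1 → f ∉ zpowers g → u * f ≠ f * u)
    (he : e ∈ S) (hee : e * e = 1) (heC : e ∉ zpowers g) {r : G} (hr : r ∈ zpowers g)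
    (hq : u * e * u⁻¹ = r * r * e) :
    (∃ w ∈ T, w * e = e * w ∧ w * w = z) ∨
      ((∀ d ∈ zpowers g, u * d * u⁻¹ = d⁻¹) ∧ ¬ ∀ d ∈ zpowers g, e * d * e⁻¹ = d⁻¹) := by
  have heT : e ∈ T := hST he
  have hgT : g ∈ T := hST h.g_mem
  have hCT : ∀ c ∈ zpowers g, c ∈ T := fun c hc => zpowers_le.2 hgT hc
  have hCS : ∀ c ∈ zpowers g, c ∈ S := fun c hc => zpowers_le.2 h.g_mem hc
  obtain ⟨c, hc, hcq⟩ := exists_comm_eq_sq (z := z) (x := e) (h.conj_mem e heT)
    (h.fixed e he heC) hr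
  have hce : c * e * c⁻¹ = u * e * u⁻¹ := by rw [hq, ← hcq]; group
  set w := c⁻¹ * u with hw
  have hwe : w * e = e * w := by
    calc w * e = c⁻¹ * (u * e * u⁻¹) * u := by rw [hw]; group
      _ = e * w := by rw [← hce, hw]; group
  have huinv : u⁻¹ = u := inv_eq_of_mul_eq_one_right huu
  have hww : w * w = c⁻¹ * (u * c⁻¹ * u⁻¹) := by
    rw [hw, huinv]; group
  have hwwC : w * w ∈ zpowers g := by
    rw [hww]; exact mul_mem (inv_mem hc) (h.conj_mem u huT _ (inv_mem hc))
  rcases h.fixed e he heC _ hwwC (((show Commute w e from hwe).mul_left hwe).eq) with h1 | h1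
  swap
  · exact Or.inl ⟨w, mul_mem (inv_mem (hCT c hc)) huT, hwe, h1⟩
  right
  have hucinv : u * c * u⁻¹ = c⁻¹ := by
    rw [hww] at h1
    have h2 := congrArg (·⁻¹) (inv_eq_of_mul_eq_one_right h1)
    simpa [mul_assoc] using h2.symm
  have hzz : z * z = 1 := by rw [← sq, ← h.z_ord, pow_orderOf_eq_one]
  -- if `w` is conjugate to `u` by an element of `⟨g⟩` then `u` fixes an involution
  have hnoconj : ∀ d ∈ zpowers g, d * (u * d⁻¹ * u⁻¹) ≠ c⁻¹ := by
    intro d hd hdc
    have hwd : w = d * u * d⁻¹ := by rw [hw, ← hdc]; group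
    refine hu (d⁻¹ * e * d) (mul_mem (mul_mem (inv_mem (hCS d hd)) he) (hCS d hd)) ?_ ?_ ?_
    · calc d⁻¹ * e * d * (d⁻¹ * e * d) = d⁻¹ * (e * e) * d := by group
        _ = 1 := by rw [hee]; group
    · intro hm
      refine heC ?_
      have := mul_mem (mul_mem hd hm) (inv_mem hd)
      simpa [mul_assoc] using this
    · calc u * (d⁻¹ * e * d) = d⁻¹ * (w * e) * d := by rw [hwd]; group
        _ = d⁻¹ * (e * w) * d := by rw [hwe]
        _ = d⁻¹ * e * d * u := by rw [hwd]; group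
  have hgen : ∀ k ∈ zpowers g, c ≠ k * k := by
    intro k hk hck
    -- `c` is a square
    by_cases hc2 : c = 1 ∨ c = z
    · have hcc : c * e = e * c := by
        rcases hc2 with h2 | h2 <;> rw [h2]
        · rw [one_mul, mul_one]
        · exact (h.z_central e heT).symm
      refine hu e he hee heC ?_
      rw [← mul_inv_eq_iff_eq_mul, ← hce, hcc, mul_inv_cancel_right]
    push Not at hc2
    have hcc1 : c * c ≠ 1 := fun h2 =>
      (eq_of_involution h.z_mem h.z_ord hc h2).elim hc2.1 hc2.2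
    set φ : G → G := fun d => d * (u * d⁻¹ * u⁻¹) with hφ
    have huk : u * k * u⁻¹ ∈ zpowers g := h.conj_mem u huT k hk
    set ε := k * (u * k * u⁻¹) with hε
    have hεC : ε ∈ zpowers g := mul_mem hk huk
    have hεε : ε * ε = 1 := by
      calc ε * ε = (k * k) * ((u * k * u⁻¹) * (u * k * u⁻¹)) := (h.comm huk hk).mul_mul_mul_comm _ _
        _ = c * (u * (k * k) * u⁻¹) := by rw [hck, conj_mul]
        _ = 1 := by rw [← hck, hucinv, mul_inv_cancel]
    -- `φ k⁻¹` and `φ (c^l)`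
    have hk1 : φ k⁻¹ = c⁻¹ * ε := by
      rw [hφ, hε, hck]; simp [mul_assoc]
    rcases eq_of_involution h.z_mem h.z_ord hεC hεε with h2 | h2
    · exact hnoconj k⁻¹ (inv_mem hk) (by rw [← mul_one c⁻¹, ← h2]; exact hk1)
    · have hzc2 : z ∈ zpowers (c * c) := by
        obtain ⟨j, hj⟩ := (IsPGroup.iff_orderOf.1 h.two_power) ⟨c * c, mul_mem hc hc⟩
        rw [← Subgroup.orderOf_coe] at hj
        have hj0 : j ≠ 0 := fun h0 => hcc1 (by rw [h0, pow_zero, orderOf_eq_one_iff] at hj; exact hj)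
        set y := (c * c) ^ 2 ^ (j - 1) with hy
        have hyy : y * y = 1 := by
          rw [hy, ← pow_add, ← two_mul, ← pow_succ', Nat.sub_add_cancel (by omega), ← hj,
            pow_orderOf_eq_one]
        have hy1 : y ≠ 1 := pow_ne_one_of_lt_orderOf (by positivity) (by
          rw [hj]; exact Nat.pow_lt_pow_right one_lt_two (by omega))
        rcases eq_of_involution h.z_mem h.z_ord (pow_mem (mul_mem hc hc) _) hyy with h3 | h3
        · exact absurd h3 hy1
        · exact h3 ▸ pow_mem (mem_zpowers _) _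
      obtain ⟨l, hl⟩ := mem_zpowers_iff.1 hzc2
      have hφl : φ (c ^ l) = z := by
        show c ^ l * (u * (c ^ l)⁻¹ * u⁻¹) = z
        rw [← zpow_neg, ← conj_zpow, hucinv, inv_zpow, zpow_neg, inv_inv, ← (Commute.refl c).mul_zpow]
        exact hl
      refine hnoconj (k⁻¹ * c ^ l) (mul_mem (inv_mem hk) (zpow_mem hc l)) ?_
      have hm : φ (k⁻¹ * c ^ l) = φ k⁻¹ * φ (c ^ l) := by
        have h3 : Commute (c ^ l) (u * k⁻¹⁻¹ * u⁻¹) :=
          h.comm (zpow_mem hc l) (h.conj_mem u huT _ (by simpa using hk))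
        have h4 : Commute (u * (c ^ l)⁻¹ * u⁻¹) (u * k⁻¹⁻¹ * u⁻¹) :=
          h.comm (h.conj_mem u huT _ (inv_mem (zpow_mem hc l)))
            (h.conj_mem u huT _ (by simpa using hk))
        show k⁻¹ * c ^ l * (u * (k⁻¹ * c ^ l)⁻¹ * u⁻¹) = _
        calc k⁻¹ * c ^ l * (u * (k⁻¹ * c ^ l)⁻¹ * u⁻¹)
            = k⁻¹ * (c ^ l * ((u * (c ^ l)⁻¹ * u⁻¹) * (u * k⁻¹⁻¹ * u⁻¹))) := by group
          _ = k⁻¹ * (c ^ l * ((u * k⁻¹⁻¹ * u⁻¹) * (u * (c ^ l)⁻¹ * u⁻¹))) := by rw [h4.eq]
          _ = k⁻¹ * ((c ^ l * (u * k⁻¹⁻¹ * u⁻¹)) * (u * (c ^ l)⁻¹ * u⁻¹)) := by group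
          _ = k⁻¹ * (((u * k⁻¹⁻¹ * u⁻¹) * c ^ l) * (u * (c ^ l)⁻¹ * u⁻¹)) := by rw [h3.eq]
          _ = _ := by rw [hφ]; group
      show φ (k⁻¹ * c ^ l) = c⁻¹
      rw [hm, hk1, hφl, h2, mul_assoc, hzz, mul_one]
  obtain ⟨m, hm⟩ := exists_odd_of_not_square hc hgen
  have hinvu : ∀ d ∈ zpowers g, u * d * u⁻¹ = d⁻¹ := by
    intro d hd
    have hdc : d ∈ zpowers c := by
      rw [hm]
      exact zpowers_le.2 (mem_zpowers_odd h.two_power m) hd
    obtain ⟨j, rfl⟩ := mem_zpowers_iff.1 hdc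
    rw [← conj_zpow, hucinv, inv_zpow]
  refine ⟨hinvu, fun hinv => ?_⟩
  have h2 : e * c⁻¹ * e⁻¹ = c := by rw [hinv _ (inv_mem hc), inv_inv]
  refine hu (c * e) (mul_mem (hCS c hc) he) ?_ (fun hm' => heC (by
    simpa using mul_mem (inv_mem hc) hm')) ?_
  · calc c * e * (c * e) = c * (e * c * e⁻¹) * (e * e) := by group
      _ = 1 := by rw [hinv c hc, hee]; group
  · calc u * (c * e) = (u * c * u⁻¹) * (u * e * u⁻¹) * u := by group
      _ = c⁻¹ * (c * e * c⁻¹) * u := by rw [hucinv, hce]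
      _ = (e * c⁻¹ * e⁻¹) * e * u := by group
      _ = c * e * u := by rw [h2]

/-- Every involution of `S` outside the cyclic part is centralised by an element with square `z`. -/
theorem CyclicMax.exists_good (h : CyclicMax T S g z) (hST : S ≤ T)
    (hTS : T ≤ normalizer (S : Set G)) {U : Subgroup G} (hUT : U ≤ T) (hU : IsKleinFour U)
    (hu : ∀ u ∈ U, u ≠ 1 → ∀ f ∈ S, f * f = 1 → f ∉ zpowers g → u * f ≠ f * u)
    {e : G} (he : e ∈ S) (hee : e * e = 1) (heC : e ∉ zpowers g) :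
    ∃ w ∈ T, w * e = e * w ∧ w * w = z := by
  have hsq : ∀ u ∈ U, u * u = 1 := fun u hu' => by
    have h1 : (⟨u, hu'⟩ : U) ^ 2 = 1 := IsKleinFour.exponent_two (G := U) ▸ Monoid.pow_exponent_eq_one _
    rw [← sq]
    exact congrArg Subtype.val h1
  have heinv : e⁻¹ = e := inv_eq_of_mul_eq_one_right hee
  have hqmem : ∀ u ∈ U, u * e * u⁻¹ * e ∈ zpowers g := by
    intro u hu'
    refine h.prod_mem _ (((mem_normalizer_iff.1 (hTS (hUT hu'))) e).1 he) e he (fun hm => heC ?_) heC
    have := h.conj_mem u⁻¹ (inv_mem (hUT hu')) _ hm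
    simpa [mul_assoc] using this
  have hqe : ∀ u : G, u * e * u⁻¹ = u * e * u⁻¹ * e * e := fun u => by
    rw [mul_assoc (u * e * u⁻¹) e e, hee, mul_one]
  -- two distinct involutions of `U`
  obtain ⟨u, v, huU, hvU, hu1, hv1, huv⟩ : ∃ u v : G, u ∈ U ∧ v ∈ U ∧ u ≠ 1 ∧ v ≠ 1 ∧ u ≠ v := by
    have h4 : Nat.card U = 4 := IsKleinFour.card_four
    obtain ⟨u, v, huv⟩ : ∃ u v : {x : U // x ≠ 1}, u ≠ v := by
      have : 1 < Nat.card {x : U // x ≠ 1} := by
        have e1 : Nat.card {x : U // x ≠ 1} = Nat.card U - 1 := by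
          classical
          haveI := Fintype.ofFinite U
          rw [Nat.card_eq_fintype_card, Nat.card_eq_fintype_card, Fintype.card_subtype_compl,
            Fintype.card_subtype_eq]
        omega
      haveI := Finite.one_lt_card_iff_nontrivial.1 this
      exact exists_pair_ne _
    refine ⟨u.1, v.1, u.1.2, v.1.2, fun hh => u.2 (Subtype.ext hh), fun hh => v.2 (Subtype.ext hh),
      fun hh => huv (Subtype.ext (Subtype.ext hh))⟩
  have huinv : u⁻¹ = u := inv_eq_of_mul_eq_one_right (hsq u huU)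
  have hm1 : u * v ≠ 1 := fun hh => huv (by
    rw [← huinv]; exact inv_eq_of_mul_eq_one_right hh)
  have hmU : u * v ∈ U := mul_mem huU hvU
  by_cases hinv : ∀ d ∈ zpowers g, e * d * e⁻¹ = d⁻¹
  · -- one of the three has a square parameter
    have hsome : ∃ x ∈ U, x ≠ 1 ∧ ∃ r ∈ zpowers g, x * e * x⁻¹ * e = r * r := by
      by_contra hns
      push Not at hns
      obtain ⟨a, ha⟩ := exists_odd_of_not_square (hqmem u huU) (hns u huU hu1)
      obtain ⟨b, hb⟩ := exists_odd_of_not_square (hqmem v hvU) (hns v hvU hv1)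
      have hug : u * g * u⁻¹ ∈ zpowers g := h.conj_mem u (hUT huU) g (mem_zpowers g)
      obtain ⟨n, hn⟩ := exists_odd_of_not_square hug (by
        intro r hr hrr
        have h1 := congrArg (fun x => u⁻¹ * x * u) hrr
        set r' := u⁻¹ * r * u with hr'
        have hr'C : r' ∈ zpowers g := by
          have := h.conj_mem u⁻¹ (inv_mem (hUT huU)) r hr
          rwa [inv_inv] at this
        have h2 : g = r' * r' := by
          rw [hr']
          calc g = u⁻¹ * (u * g * u⁻¹) * u := by group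
            _ = u⁻¹ * (r * r) * u := by rw [hrr]
            _ = _ := by group
        obtain ⟨j, hj⟩ := mem_zpowers_iff.1 hr'C
        obtain ⟨k, hk⟩ := IsPGroup.iff_card.1 h.two_power
        rw [Nat.card_zpowers] at hk
        have hk0 : k ≠ 0 := fun h0 => h.g_sq (by
          rw [h0, pow_zero, orderOf_eq_one_iff] at hk
          rw [hk, one_mul])
        rw [← hj, ← zpow_add] at h2
        have h3 : g ^ (j + j - 1) = 1 := by rw [zpow_sub, zpow_one, ← h2, mul_inv_cancel]
        have h4 := orderOf_dvd_iff_zpow_eq_one.2 h3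
        rw [hk] at h4
        have h5 : (2 : ℤ) ∣ j + j - 1 := dvd_trans
          (by exact_mod_cast dvd_pow_self 2 hk0) h4
        omega)
      have hcalc : u * v * e * (u * v)⁻¹ * e =
          (u * (v * e * v⁻¹ * e) * u⁻¹) * (u * e * u⁻¹ * e) := by
        calc u * v * e * (u * v)⁻¹ * e = u * (v * e * v⁻¹) * u⁻¹ * e := by group
          _ = u * (v * e * v⁻¹ * e * e) * u⁻¹ * e := by rw [← hqe v]
          _ = _ := by group
      rw [ha, hb, ← conj_zpow, hn, ← zpow_mul, ← zpow_add] at hcalc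
      refine hns _ hmU hm1 (g ^ ((2 * n + 1) * b + n + a + 1))
        (zpow_mem (mem_zpowers g) _) ?_
      rw [hcalc, ← zpow_add]
      congr 1
      ring
    obtain ⟨x, hx, hx1, r, hr, hq⟩ := hsome
    rcases h.good_or_inverts hST hTS (hUT hx) (hsq x hx) (hu x hx hx1) he hee heC hr
      (by rw [hqe x, hq]) with h1 | ⟨-, h2⟩
    · exact h1
    · exact absurd hinv h2
  · have hall : ∀ x ∈ U, ∃ r ∈ zpowers g, x * e * x⁻¹ * e = r * r := by
      intro x hx
      by_contra hns
      push Not at hns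
      obtain ⟨a, ha⟩ := exists_odd_of_not_square (hqmem x hx) hns
      refine hinv fun d hd => ?_
      set q := x * e * x⁻¹ * e with hq
      have h1 : e * q * e⁻¹ = q⁻¹ := by
        refine eq_inv_of_mul_eq_one_right ?_
        calc q * (e * q * e⁻¹) = (q * e) * (q * e) * (e * e)⁻¹ := by group
          _ = 1 := by
            rw [hq, mul_assoc (x * e * x⁻¹) e e, hee, mul_one, conj_mul, hee, mul_one,
              mul_inv_cancel, inv_one, one_mul]
      have hdq : d ∈ zpowers q := by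
        rw [ha]
        exact zpowers_le.2 (mem_zpowers_odd h.two_power a) hd
      obtain ⟨j, rfl⟩ := mem_zpowers_iff.1 hdq
      rw [← conj_zpow, h1, inv_zpow]
    have hcase : ∀ x ∈ U, x ≠ 1 → (∃ w ∈ T, w * e = e * w ∧ w * w = z) ∨
        ∀ d ∈ zpowers g, x * d * x⁻¹ = d⁻¹ := by
      intro x hx hx1
      obtain ⟨r, hr, hq⟩ := hall x hx
      rcases h.good_or_inverts hST hTS (hUT hx) (hsq x hx) (hu x hx hx1) he hee heC hr
        (by rw [hqe x, hq]) with h1 | ⟨h1, -⟩
      · exact Or.inl h1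
      · exact Or.inr h1
    rcases hcase u huU hu1 with h1 | h1
    · exact h1
    rcases hcase v hvU hv1 with h2 | h2
    · exact h2
    rcases hcase _ hmU hm1 with h3 | h3
    · exact h3
    exfalso
    have h4 : u * v * g * (u * v)⁻¹ = g := by
      calc u * v * g * (u * v)⁻¹ = u * (v * g * v⁻¹) * u⁻¹ := by group
        _ = u * g⁻¹ * u⁻¹ := by rw [h2 g (mem_zpowers g)]
        _ = g := by rw [h1 _ (inv_mem (mem_zpowers g)), inv_inv]
    rw [h3 g (mem_zpowers g)] at h4
    exact h.g_sq (mul_eq_one_iff_eq_inv.2 h4.symm)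

end CfsgLib.RankOneFour
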