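import Cfsg.Agent.RankOneFour.Good
import Cfsg.Agent.RankOneFour.Conj
import Cfsg.Agent.Small.ThompsonTransfer

/-!
A group without subgroups of index two, normalised by a four-group none of whose involutions
centralises two commuting involutions of it, has no two commuting involutions.
-/

set_option autoImplicit false

open Subgroup

namespace CfsgLib.RankOneFour

variable {G : Type*} [Group G] [Finite G]

theorem conj_cancel {k a b : G} : k * a * k⁻¹ = k * b * k⁻¹ ↔ a = b :=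
  (MulAut.conj k).injective.eq_iff (a := a) (b := b)

theorem conj_commute {k a b : G} (h : a * b = b * a) :
    k * a * k⁻¹ * (k * b * k⁻¹) = k * b * k⁻¹ * (k * a * k⁻¹) := by
  rw [conj_mul, conj_mul, h]

theorem conj_sq_one {k a : G} (h : a * a = 1) : k * a * k⁻¹ * (k * a * k⁻¹) = 1 := by
  rw [conj_mul, h, mul_one, mul_inv_cancel]

theorem rank_le_one_of_four (A : Subgroup G) (hperf : ∀ H : Subgroup A, H.index ≠ 2)
    (U : Subgroup G) (hU : IsKleinFour U) (hUA : U ≤ normalizer (A : Set G))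
    (hΓ : ∀ u ∈ U, u ≠ 1 → ∀ x ∈ A, ∀ y ∈ A, x * x = 1 → y * y = 1 → x ≠ 1 → y ≠ 1 → x ≠ y →
      x * y = y * x → u * x = x * u → u * y = y * u → False)
    {a₁ b₁ : G} (ha : a₁ ∈ A) (hb : b₁ ∈ A) (haa : a₁ * a₁ = 1) (hbb : b₁ * b₁ = 1)
    (ha1 : a₁ ≠ 1) (hb1 : b₁ ≠ 1) (hab : a₁ ≠ b₁) (hcomm : a₁ * b₁ = b₁ * a₁) : False := by
  classical
  haveI : Fact (Nat.Prime 2) := ⟨Nat.prime_two⟩
  have hUsq : ∀ u ∈ U, u * u = 1 := fun u hu' => by
    have h1 : (⟨u, hu'⟩ : U) ^ 2 = 1 := IsKleinFour.exponent_two (G := U) ▸ Monoid.pow_exponent_eq_one _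
    rw [← sq]
    exact congrArg Subtype.val h1
  have hUp : IsPGroup 2 U := fun u => ⟨1, Subtype.ext (by
    rw [pow_one, sq]; exact hUsq u u.2)⟩
  set H := A ⊔ U with hH
  obtain ⟨T, hTH, hUT, hT, hTmax⟩ := exists_max_pGroup (K := H) hUp le_sup_right
  have hHA : H ≤ normalizer (A : Set G) := sup_le le_normalizer hUA
  set S := A ⊓ T with hS
  have hST : S ≤ T := inf_le_right
  have hTS : T ≤ normalizer (S : Set G) := fun t ht => mem_normalizer_of_forall_conj fun x hx =>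
    ⟨((mem_normalizer_iff.1 (hHA (hTH ht))) x).1 hx.1, T.mul_mem (T.mul_mem ht hx.2) (T.inv_mem ht)⟩
  -- `x ∈ T` is `s * v`
  have hdec : ∀ x ∈ T, ∃ s ∈ S, ∃ v ∈ U, x = s * v := by
    intro x hx
    have h1 : x ∈ (A ⊔ U : Subgroup G) := hTH hx
    rw [← SetLike.mem_coe, coe_mul_of_right_le_normalizer_left A U hUA] at h1
    obtain ⟨s, hs, v, hv, rfl⟩ := h1
    refine ⟨s, ⟨hs, ?_⟩, v, hv, rfl⟩
    have := mul_mem hx (inv_mem (hUT hv))
    simpa using this
  -- four-groups generated by involutions of `A`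
  have hpair : ∀ x y : G, x * x = 1 → y * y = 1 → x * y = y * x →
      IsPGroup 2 (closure ({x, y} : Set G)) := by
    intro x y hxx hyy hxy
    haveI : IsMulCommutative (closure ({x, y} : Set G)) := Subgroup.isMulCommutative_closure (by
      rintro p (rfl | rfl) q (rfl | rfl) <;> first | rfl | exact hxy | exact hxy.symm)
    intro q
    refine ⟨1, Subtype.ext ?_⟩
    rw [pow_one, Subgroup.coe_pow, Subgroup.coe_one]
    refine closure_induction (p := fun y _ => y ^ 2 = 1) ?_ (one_pow 2) ?_ ?_ q.2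
    · rintro p (rfl | rfl) <;> rw [sq] <;> assumption
    · intro p r hp hr e1 e2
      have : Commute p r := congrArg Subtype.val (IsMulCommutative.is_comm.comm
        (⟨p, hp⟩ : closure ({x, y} : Set G)) ⟨r, hr⟩)
      rw [this.mul_pow, e1, e2, mul_one]
    · intro p _ e1
      rw [inv_pow, e1, inv_one]
  have hrk : ∃ a ∈ S, ∃ b ∈ S, orderOf a = 2 ∧ orderOf b = 2 ∧ a ≠ b ∧ a * b = b * a := by
    obtain ⟨k, hk, hkP⟩ := exists_conj_into hT hTH hTmax (hpair a₁ b₁ haa hbb hcomm)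
      (((closure_le _).2 (Set.insert_subset ha (Set.singleton_subset_iff.2 hb))).trans le_sup_left)
    have hkA := hHA hk
    refine ⟨k * a₁ * k⁻¹, ⟨((mem_normalizer_iff.1 hkA) a₁).1 ha, hkP _ (subset_closure (by simp))⟩,
      k * b₁ * k⁻¹, ⟨((mem_normalizer_iff.1 hkA) b₁).1 hb, hkP _ (subset_closure (by simp))⟩,
      ?_, ?_, fun h => hab (conj_cancel.1 h), conj_commute hcomm⟩
    · exact orderOf_eq_prime (by rw [sq]; exact conj_sq_one haa)
        (fun h => ha1 (conj_eq_one_iff.1 h))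
    · exact orderOf_eq_prime (by rw [sq]; exact conj_sq_one hbb)
        (fun h => hb1 (conj_eq_one_iff.1 h))
  have hord : ∀ {x : G}, orderOf x = 2 → x * x = 1 ∧ x ≠ 1 := fun {x} hx =>
    ⟨by rw [← sq, ← hx, pow_orderOf_eq_one], fun h => by rw [h, orderOf_one] at hx; norm_num at hx⟩
  obtain ⟨u₀, v₀, hu₀, hv₀, hu₀1, hv₀1, huv₀⟩ :
      ∃ u v : G, u ∈ U ∧ v ∈ U ∧ u ≠ 1 ∧ v ≠ 1 ∧ u ≠ v := by
    obtain ⟨u, v, huv⟩ : ∃ u v : {x : U // x ≠ 1}, u ≠ v := by
      have e1 : Nat.card {x : U // x ≠ 1} = Nat.card U - 1 := by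
        haveI := Fintype.ofFinite U
        rw [Nat.card_eq_fintype_card, Nat.card_eq_fintype_card, Fintype.card_subtype_compl,
          Fintype.card_subtype_eq]
      haveI := Finite.one_lt_card_iff_nontrivial.1
        (show 1 < Nat.card {x : U // x ≠ 1} by rw [e1, IsKleinFour.card_four]; norm_num)
      exact exists_pair_ne _
    refine ⟨u.1, v.1, u.1.2, v.1.2, fun hh => u.2 (Subtype.ext hh), fun hh => v.2 (Subtype.ext hh),
      fun hh => huv (Subtype.ext (Subtype.ext hh))⟩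
  obtain ⟨g, z, hC⟩ := exists_cyclicMax hT hST hTS (by
    intro z hz e he hzo heo hze hzc hconj
    obtain ⟨hzz, hz1⟩ := hord hzo
    obtain ⟨hee, he1⟩ := hord heo
    have hzu : ∀ u ∈ U, u * z = z * u := fun u hu => hzc u (hUT hu)
    have hcon : ∀ u ∈ U, u ≠ 1 → u * e = e * u → False := fun u hu hu1 hue =>
      hΓ u hu hu1 z hz.1 e he.1 hzz hee hz1 he1 hze (hzc e (hST he)).symm (hzu u hu) hue
    rcases hconj u₀ (hUT hu₀) with h1 | h1
    · exact hcon u₀ hu₀ hu₀1 (mul_inv_eq_iff_eq_mul.1 h1)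
    rcases hconj v₀ (hUT hv₀) with h2 | h2
    · exact hcon v₀ hv₀ hv₀1 (mul_inv_eq_iff_eq_mul.1 h2)
    refine hcon (u₀ * v₀) (mul_mem hu₀ hv₀) (fun h => huv₀ ?_) (mul_inv_eq_iff_eq_mul.1 ?_)
    · rw [← inv_eq_of_mul_eq_one_right (hUsq u₀ hu₀)]
      exact inv_eq_of_mul_eq_one_right h
    · calc u₀ * v₀ * e * (u₀ * v₀)⁻¹ = u₀ * (v₀ * e * v₀⁻¹) * u₀⁻¹ := by group
        _ = (u₀ * z) * e * u₀⁻¹ := by rw [h2]; group
        _ = z * (u₀ * e * u₀⁻¹) := by rw [hzu u₀ hu₀]; group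
        _ = e := by rw [h1, ← mul_assoc, hzz, one_mul]) hrk
  obtain ⟨hzz, hz1⟩ := hord hC.z_ord
  have hgT : g ∈ T := hST hC.g_mem
  have hCS : zpowers g ≤ S := zpowers_le.2 hC.g_mem
  -- an involution of `S` outside `⟨g⟩`
  obtain ⟨e, heS, hee, he1, heC⟩ : ∃ e ∈ S, e * e = 1 ∧ e ≠ 1 ∧ e ∉ zpowers g := by
    obtain ⟨a, haS, b, hbS, ha2, hb2, hne, -⟩ := hrk
    obtain ⟨h1, h2⟩ := hord ha2
    obtain ⟨h3, h4⟩ := hord hb2
    by_cases haC : a ∈ zpowers g
    · refine ⟨b, hbS, h3, h4, fun hbC => hne ?_⟩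
      exact ((eq_of_involution hC.z_mem hC.z_ord haC h1).resolve_left h2).trans
        ((eq_of_involution hC.z_mem hC.z_ord hbC h3).resolve_left h4).symm
    · exact ⟨a, haS, h1, h2, haC⟩
  have hu : ∀ u ∈ U, u ≠ 1 → ∀ f ∈ S, f * f = 1 → f ∉ zpowers g → u * f ≠ f * u := by
    intro u hu hu1 f hf hff hfC huf
    exact hΓ u hu hu1 z (hCS hC.z_mem).1 f hf.1 hzz hff hz1 (fun h => hfC (h ▸ one_mem _))
      (fun h => hfC (h ▸ hC.z_mem)) (hC.z_central f (hST hf)).symm (hC.z_central u (hUT hu)) huf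
  -- squares of `T` lie in `⟨g⟩`
  have hsqT : ∀ x ∈ T, x * x ∈ zpowers g := by
    intro x hx
    obtain ⟨s, hs, v, hv, rfl⟩ := hdec x hx
    have hvi : v⁻¹ = v := inv_eq_of_mul_eq_one_right (hUsq v hv)
    have e1 : s * v * (s * v) = s * (v * s * v⁻¹) := by rw [hvi]; group
    rw [e1]
    by_cases hsC : s ∈ zpowers g
    · exact mul_mem hsC (hC.conj_mem v (hUT hv) s hsC)
    · refine hC.prod_mem s hs _ (((mem_normalizer_iff.1 (hTS (hUT hv))) s).1 hs) hsC fun h => hsC ?_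
      have := hC.conj_mem v⁻¹ (inv_mem (hUT hv)) _ h
      simpa [mul_assoc] using this
  -- fusion of `e` into `⟨g⟩`
  obtain ⟨g₀, hg₀A, hg₀⟩ : ∃ g₀ ∈ A, g₀⁻¹ * e * g₀ = z := by
    obtain ⟨Q, hQ⟩ := ((hT.to_le hST).comap_subtype (K := A)).exists_le_sylow
    have hQe : S.subgroupOf A = (Q : Subgroup A) := by
      refine eq_of_le_of_card_ge hQ ?_
      obtain ⟨k, hk, hkQ⟩ := exists_conj_into hT hTH hTmax (Q.2.map A.subtype)
        ((map_subtype_le _).trans le_sup_left)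
      rw [Nat.card_congr (subgroupOfEquivOfLe (inf_le_left : S ≤ A)).toEquiv,
        ← card_map_of_injective (K := (Q : Subgroup A)) A.subtype_injective,
        ← card_map_of_injective (K := (Q : Subgroup A).map A.subtype)
          (f := (MulAut.conj k).toMonoidHom) (MulAut.conj k).injective]
      refine card_le_of_le ?_
      rintro _ ⟨y, hy, rfl⟩
      exact ⟨((mem_normalizer_iff.1 (hHA hk)) y).1 (map_subtype_le _ hy), hkQ y hy⟩
    have hMS : (zpowers g).subgroupOf A ≤ (Q : Subgroup A) := hQe ▸ fun x hx => hCS hx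
    have hrel : ((zpowers g).subgroupOf A).relIndex (Q : Subgroup A) = 2 := by
      rw [← hQe, relIndex_subgroupOf (inf_le_left : S ≤ A)]
      show ((zpowers g).subgroupOf S).index = 2
      rw [index_eq_two_iff]
      refine ⟨⟨e, heS⟩, fun b => ?_⟩
      simp only [mem_subgroupOf, Subgroup.coe_mul]
      by_cases hbC : (b : G) ∈ zpowers g
      · refine Or.inr ⟨hbC, fun h => heC ?_⟩
        simpa using mul_mem (inv_mem hbC) h
      · exact Or.inl ⟨hC.prod_mem b b.2 e heS hbC heC, hbC⟩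
    obtain ⟨g₀, hg₀⟩ := CfsgLib.Small.thompson_transfer_sylow hperf Q _ hMS hrel
      (u := ⟨e, heS.1⟩) (by
        rw [← Subgroup.orderOf_coe]
        exact orderOf_eq_prime (by rw [sq]; exact hee) he1)
    refine ⟨g₀, g₀.2, (eq_of_involution hC.z_mem hC.z_ord hg₀ ?_).resolve_left fun h => he1 ?_⟩
    · have := conj_sq_one (k := ((g₀ : G))⁻¹) hee
      simpa using this
    · have h' : (g₀ : G)⁻¹ * e * (g₀ : G) = 1 := h
      calc e = (g₀ : G) * ((g₀ : G)⁻¹ * e * g₀) * (g₀ : G)⁻¹ := by group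
        _ = 1 := by rw [h']; group
  -- move the image of `z` into `S`
  set x := g₀⁻¹ * z * g₀ with hx
  have hxx : x * x = 1 := by
    have := conj_sq_one (k := g₀⁻¹) hzz
    rwa [inv_inv] at this
  have hzx : z * x = x * z := by
    rw [hx, ← hg₀]
    calc g₀⁻¹ * e * g₀ * (g₀⁻¹ * (g₀⁻¹ * e * g₀) * g₀)
        = g₀⁻¹ * (e * (g₀⁻¹ * e * g₀)) * g₀ := by group
      _ = g₀⁻¹ * ((g₀⁻¹ * e * g₀) * e) * g₀ := by
        rw [show e * (g₀⁻¹ * e * g₀) = (g₀⁻¹ * e * g₀) * e by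
          rw [hg₀]; exact hC.z_central e (hST heS)]
      _ = _ := by group
  have hxA : x ∈ A := mul_mem (mul_mem (inv_mem hg₀A) (hCS hC.z_mem).1) hg₀A
  have hTK : T ≤ H ⊓ centralizer ({z} : Set G) := fun t ht =>
    ⟨hTH ht, mem_centralizer_singleton_iff.2 (hC.z_central t ht)⟩
  obtain ⟨k, hk, hkP⟩ := exists_conj_into hT hTK (fun P hP hPK => hTmax P hP (hPK.trans inf_le_left))
    (hpair z x hzz hxx hzx) ((closure_le _).2 (Set.insert_subset
      ⟨mem_sup_left (hCS hC.z_mem).1, mem_centralizer_singleton_iff.2 rfl⟩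
      (Set.singleton_subset_iff.2 ⟨mem_sup_left hxA, mem_centralizer_singleton_iff.2 hzx.symm⟩)))
  set h₀ := k * g₀⁻¹ with hh₀
  have hh₀H : h₀ ∈ H := mul_mem hk.1 (inv_mem (mem_sup_left hg₀A))
  have hkz : k * z * k⁻¹ = z := by
    rw [mem_centralizer_singleton_iff.1 hk.2, mul_inv_cancel_right]
  have he₀ : h₀ * e * h₀⁻¹ = z := by
    rw [hh₀, ← hkz, ← hg₀]; group
  set e₁ := h₀ * z * h₀⁻¹ with he₁
  have he₁x : e₁ = k * x * k⁻¹ := by rw [he₁, hh₀, hx]; group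
  have he₁S : e₁ ∈ S := by
    rw [he₁x]
    exact ⟨((mem_normalizer_iff.1 (hHA hk.1)) x).1 hxA, hkP x (subset_closure (by simp))⟩
  have he₁sq : e₁ * e₁ = 1 := conj_sq_one hzz
  have he₁z : e₁ ≠ z := fun h => heC (by
    have h1 : h₀ * z * h₀⁻¹ = h₀ * e * h₀⁻¹ := by rw [← he₁, h, he₀]
    exact conj_cancel.1 h1 ▸ hC.z_mem)
  have he₁1 : e₁ ≠ 1 := fun h => hz1 (conj_eq_one_iff.1 h)
  have he₁C : e₁ ∉ zpowers g := fun h =>
    (eq_of_involution hC.z_mem hC.z_ord h he₁sq).elim he₁1 he₁z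
  obtain ⟨w, hwT, hwe, hww⟩ := hC.exists_good hST hTS hUT hU hu heS hee heC
  obtain ⟨w₁, hw₁T, hw₁e, hw₁w⟩ := hC.exists_good hST hTS hUT hU hu he₁S he₁sq he₁C
  -- both live in the centralizer of `z` and `e₁`
  set w' := h₀ * w * h₀⁻¹ with hw'
  have hw'z : w' * z = z * w' := by rw [← he₀]; exact conj_commute hwe
  have hw'e : w' * e₁ = e₁ * w' := conj_commute (hC.z_central w hwT)
  have hw'w : w' * w' = e₁ := by rw [hw', conj_mul, hww]
  set K := H ⊓ (centralizer ({z} : Set G) ⊓ centralizer ({e₁} : Set G)) with hK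
  have hmemK : ∀ y, y ∈ H → y * z = z * y → y * e₁ = e₁ * y → y ∈ K := fun y h1 h2 h3 =>
    ⟨h1, mem_centralizer_singleton_iff.2 h2, mem_centralizer_singleton_iff.2 h3⟩
  have hze : z * e₁ = e₁ * z := (hC.z_central e₁ (hST he₁S)).symm
  have hL : closure ({w₁, z, e₁} : Set G) ≤ T :=
    (closure_le _).2 (Set.insert_subset hw₁T (Set.insert_subset (hST (hCS hC.z_mem))
      (Set.singleton_subset_iff.2 (hST he₁S))))
  obtain ⟨P, hPK, hLP, hP, hPmax⟩ := exists_max_pGroup (K := K) (hT.to_le hL) ((closure_le _).2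
    (Set.insert_subset (hmemK w₁ (hTH hw₁T) (hC.z_central w₁ hw₁T) hw₁e)
      (Set.insert_subset (hmemK z (mem_sup_left (hCS hC.z_mem).1) rfl hze)
        (Set.singleton_subset_iff.2 (hmemK e₁ (mem_sup_left he₁S.1) hze.symm rfl)))))
  obtain ⟨N, hN⟩ := (IsPGroup.iff_orderOf.1 hT) ⟨w, hwT⟩
  rw [← Subgroup.orderOf_coe] at hN
  have hwp : IsPGroup 2 (zpowers w') := by
    have e1 : orderOf w' = orderOf w := orderOf_injective (MulAut.conj h₀).toMonoidHom
      (MulAut.conj h₀).injective w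
    exact IsPGroup.of_card (n := N) (by rw [Nat.card_zpowers, e1, hN])
  obtain ⟨c, hc, hcP⟩ := exists_conj_into hP hPK hPmax hwp
    (zpowers_le.2 (hmemK w' (mul_mem (mul_mem hh₀H (hTH hwT)) (inv_mem hh₀H)) hw'z hw'e))
  obtain ⟨b, hb, hbP⟩ := exists_conj_into hT hTH hTmax hP (hPK.trans inf_le_left)
  have hc1 : c * e₁ * c⁻¹ = e₁ := by
    rw [mem_centralizer_singleton_iff.1 hc.2.2, mul_inv_cancel_right]
  have hzP : z ∈ P := hLP (subset_closure (by simp))
  have he₁P : e₁ ∈ P := hLP (subset_closure (by simp))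
  -- some involution of the transported four-group is outside `⟨g⟩`
  set z' := b * z * b⁻¹ with hz'
  set f' := b * e₁ * b⁻¹ with hf'
  have hz'S : z' ∈ S := ⟨((mem_normalizer_iff.1 (hHA hb)) z).1 (hCS hC.z_mem).1, hbP z hzP⟩
  have hf'S : f' ∈ S := ⟨((mem_normalizer_iff.1 (hHA hb)) e₁).1 he₁S.1, hbP e₁ he₁P⟩
  obtain ⟨f, hfS, hfC, hfmem⟩ : ∃ f ∈ S, f ∉ zpowers g ∧ (f = z' ∨ f = f') := by
    by_cases h1 : z' ∈ zpowers g
    · refine ⟨f', hf'S, fun h2 => he₁z ?_, Or.inr rfl⟩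
      have e1 := (eq_of_involution hC.z_mem hC.z_ord h1 (conj_sq_one hzz)).resolve_left
        (fun h => hz1 (conj_eq_one_iff.1 h))
      have e2 := (eq_of_involution hC.z_mem hC.z_ord h2 (conj_sq_one he₁sq)).resolve_left
        (fun h => he₁1 (conj_eq_one_iff.1 h))
      exact conj_cancel.1 (e2.trans e1.symm)
    · exact ⟨z', hz'S, h1, Or.inl rfl⟩
  have key : ∀ y ∈ P, ∀ t, y * y = t → t ≠ 1 → b * t * b⁻¹ = z := by
    intro y hy t ht ht1
    have hyK := hPK hy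
    have hyf : b * y * b⁻¹ * f = f * (b * y * b⁻¹) := by
      rcases hfmem with rfl | rfl
      · exact conj_commute (mem_centralizer_singleton_iff.1 hyK.2.1)
      · exact conj_commute (mem_centralizer_singleton_iff.1 hyK.2.2)
    have h1 := hsqT _ (hbP y hy)
    have h2 := hC.fixed f hfS hfC _ h1
      ((show Commute (b * y * b⁻¹) f from hyf).mul_left hyf).eq
    rw [conj_mul, ht] at h2
    exact h2.resolve_left fun h => ht1 (conj_eq_one_iff.1 h)
  have k1 := key w₁ (hLP (subset_closure (by simp))) z hw₁w hz1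
  have k2 := key (c * w' * c⁻¹) (hcP w' (mem_zpowers w')) e₁ (by rw [conj_mul, hw'w, hc1]) he₁1
  exact he₁z (conj_cancel.1 (k2.trans k1.symm))

end CfsgLib.RankOneFour
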